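import Mathlib.RingTheory.LocalRing.Module
import Mathlib.RingTheory.Flat.Localization
import Mathlib.RingTheory.Filtration
import Mathlib.LinearAlgebra.DirectSum.Finsupp
import Mathlib.Algebra.Module.Torsion.Basic
import Mathlib.RingTheory.TensorProduct.Finite
import Mathlib.RingTheory.Ideal.Quotient.Operations
import Mathlib.RingTheory.Artinian.Ring

/-!
# Criteria of flatness

`TorZero R M Q` is the vanishing of `Tor₁(M, Q)`, phrased through a free presentation of `M`.
-/

universe u v

open scoped TensorProduct
open LinearMap Function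

namespace Groth.Agent.FlatCritUniv

section TorZero

variable (R : Type u) [CommRing R] (M : Type v) [AddCommGroup M] [Module R M]

/-- The relations of the tautological free presentation of `M`. -/
noncomputable def rel : Submodule R (M →₀ R) := LinearMap.ker (Finsupp.linearCombination R (id : M → M))

noncomputable instance instAddCommGroupRel : AddCommGroup ↥(rel R M) := Submodule.addCommGroup (rel R M)

/-- `Tor₁(M, Q) = 0`. -/
def TorZero (Q : Type u) [AddCommGroup Q] [Module R Q] : Prop :=
  Injective ((rel R M).subtype.rTensor Q)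

variable {R M}
variable {K : Type u} [AddCommGroup K] [Module R K] {P : Type u} [AddCommGroup P] [Module R P]
  {Q : Type u} [AddCommGroup Q] [Module R Q]

theorem exact_rel : Exact (rel R M).subtype (Finsupp.linearCombination R (id : M → M)) :=
  LinearMap.exact_subtype_ker_map _

theorem surjective_rel : Surjective (Finsupp.linearCombination R (id : M → M)) :=
  Finsupp.linearCombination_id_surjective R M

theorem TorZero.lTensor_injective (h : TorZero R M Q) {f : K →ₗ[R] P} {g : P →ₗ[R] Q}
    (hf : Injective f) (he : Exact f g) (hg : Surjective g) : Injective (f.lTensor M) :=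
  lTensor_injective_of_exact_of_exact_of_rTensor_injective exact_rel surjective_rel he hg h
    (Module.Flat.lTensor_preserves_injective_linearMap f hf)

theorem TorZero.of_presentation (hP : TorZero R M P) {f : K →ₗ[R] P} {g : P →ₗ[R] Q}
    (he : Exact f g) (hg : Surjective g) (hi : Injective (f.lTensor M)) : TorZero R M Q := by
  rw [TorZero, ← LinearMap.lTensor_inj_iff_rTensor_inj]
  exact lTensor_injective_of_exact_of_exact_of_rTensor_injective he hg exact_rel surjective_rel
    ((LinearMap.lTensor_inj_iff_rTensor_inj _ _).mp hi)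
    ((LinearMap.lTensor_inj_iff_rTensor_inj _ _).mpr hP)

theorem TorZero.of_flat [Module.Flat R Q] : TorZero R M Q :=
  Module.Flat.rTensor_preserves_injective_linearMap _ Subtype.val_injective

theorem TorZero.of_extension (hK : TorZero R M K) (hQ : TorZero R M Q) {f : K →ₗ[R] P} {g : P →ₗ[R] Q}
    (hf : Injective f) (he : Exact f g) (hg : Surjective g) : TorZero R M P := by
  rw [TorZero, injective_iff_map_eq_zero]
  intro x hx
  have h2 : g.lTensor (rel R M) x = 0 := by
    apply hQ
    rw [← LinearMap.comp_apply, LinearMap.rTensor_comp_lTensor, ← LinearMap.lTensor_comp_rTensor,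
      LinearMap.comp_apply, hx, map_zero, map_zero]
  obtain ⟨y, rfl⟩ := (_root_.lTensor_exact (rel R M) he hg x).mp h2
  suffices y = 0 by simp [this]
  apply hK
  apply Module.Flat.lTensor_preserves_injective_linearMap (M := M →₀ R) f hf
  rw [← LinearMap.comp_apply, LinearMap.lTensor_comp_rTensor, ← LinearMap.rTensor_comp_lTensor,
    LinearMap.comp_apply, hx, map_zero, map_zero]

theorem TorZero.of_linearEquiv (h : TorZero R M P) (e : P ≃ₗ[R] Q) : TorZero R M Q :=
  h.of_presentation (f := (0 : P →ₗ[R] P) ∘ₗ (⊥ : Submodule R P).subtype) (g := e.toLinearMap)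
    (by rw [LinearMap.exact_iff]; ext x; simp) e.surjective
    (fun x y _ => by
      have : Subsingleton (M ⊗[R] (⊥ : Submodule R P)) := inferInstance
      exact Subsingleton.elim x y)

theorem torZero_quotient_iff (I : Ideal R) :
    TorZero R M (R ⧸ I) ↔ Injective (I.subtype.lTensor M) := by
  refine ⟨fun h => h.lTensor_injective Subtype.val_injective ?_ (Submodule.mkQ_surjective _),
    fun h => TorZero.of_presentation (TorZero.of_flat (Q := R)) ?_ (Submodule.mkQ_surjective _) h⟩ <;>
  exact LinearMap.exact_subtype_mkQ I

theorem TorZero.finsupp (ι : Type u) (h : TorZero R M Q) : TorZero R M (ι →₀ Q) := by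
  classical
  rw [TorZero, injective_iff_map_eq_zero]
  intro x hx
  apply (TensorProduct.finsuppRight R R (rel R M) Q ι).injective
  ext i
  rw [map_zero, Finsupp.zero_apply, TensorProduct.finsuppRight_apply]
  apply h
  rw [map_zero, ← LinearMap.comp_apply, LinearMap.rTensor_comp_lTensor,
    ← LinearMap.lTensor_comp_rTensor, LinearMap.comp_apply, hx, map_zero]

theorem TorZero.of_subsingleton [Subsingleton Q] : TorZero R M Q := fun _ _ _ =>
  Subsingleton.elim _ _

end TorZero

section Annihilated

variable {R : Type u} [CommRing R] {M : Type v} [AddCommGroup M] [Module R M]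

theorem lTensor_injective_of_flat_baseChange (B : Type u) [CommRing B] [Algebra R B]
    [Module.Flat B (B ⊗[R] M)] {K : Type u} [AddCommGroup K] [Module R K] [Module B K]
    [IsScalarTower R B K] {N : Type u} [AddCommGroup N] [Module R N] [Module B N]
    [IsScalarTower R B N] (f : K →ₗ[B] N) (hf : Injective f) :
    Injective ((f.restrictScalars R).lTensor M) := by
  rw [LinearMap.lTensor_inj_iff_rTensor_inj]
  have h := Module.Flat.rTensor_preserves_injective_linearMap (M := B ⊗[R] M) f hf
  let eK := TensorProduct.AlgebraTensorModule.cancelBaseChange R B B K M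
  let eN := TensorProduct.AlgebraTensorModule.cancelBaseChange R B B N M
  have : ∀ x, eN (f.rTensor (B ⊗[R] M) x) = (f.restrictScalars R).rTensor M (eK x) := by
    intro x
    induction x with
    | zero => simp
    | add x y hx hy => simp [hx, hy]
    | tmul k y =>
      induction y with
      | zero => simp
      | add x y hx hy => simp_all [TensorProduct.tmul_add]
      | tmul b m => simp [eK, eN]
  intro x y hxy
  obtain ⟨x, rfl⟩ := eK.surjective x
  obtain ⟨y, rfl⟩ := eK.surjective y
  rw [← this, ← this] at hxy
  exact congrArg eK (h (eN.injective hxy))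

/-- If `Tor₁(M, R/I) = 0` and `M/IM` is flat over `R/I`, then `Tor₁(M, Q) = 0` for every `Q`
killed by `I`. -/
theorem torZero_of_smul_eq_bot {I : Ideal R} (h1 : Injective (I.subtype.lTensor M))
    [Module.Flat (R ⧸ I) ((R ⧸ I) ⊗[R] M)] {Q : Type u} [AddCommGroup Q] [Module R Q]
    (hQ : I • (⊤ : Submodule R Q) = ⊥) : TorZero R M Q := by
  have htor : Module.IsTorsionBySet R Q I := fun x a => by
    have : (a : R) • x ∈ I • (⊤ : Submodule R Q) := Submodule.smul_mem_smul a.2 trivial
    simpa [hQ] using this
  letI := htor.module
  haveI : IsScalarTower R (R ⧸ I) Q := htor.isScalarTower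
  let g := Finsupp.linearCombination (R ⧸ I) (id : Q → Q)
  letI : AddCommGroup ↥(LinearMap.ker g) := Submodule.addCommGroup _
  refine TorZero.of_presentation (P := Q →₀ R ⧸ I) (K := ↥(LinearMap.ker g)) (((torZero_quotient_iff I).mpr h1).finsupp Q)
    (f := (LinearMap.ker g).subtype.restrictScalars R) (g := g.restrictScalars R) ?_
    (Finsupp.linearCombination_id_surjective _ Q) ?_
  · exact LinearMap.exact_subtype_ker_map g
  · exact lTensor_injective_of_flat_baseChange (R ⧸ I) _ Subtype.val_injective

theorem torZero_of_pow_smul_eq_bot {I : Ideal R} (h1 : Injective (I.subtype.lTensor M))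
    [Module.Flat (R ⧸ I) ((R ⧸ I) ⊗[R] M)] (n : ℕ) {Q : Type u} [AddCommGroup Q] [Module R Q]
    (hQ : I ^ n • (⊤ : Submodule R Q) = ⊥) : TorZero R M Q := by
  induction n generalizing Q with
  | zero =>
    rw [pow_zero, Ideal.one_eq_top, Submodule.top_smul] at hQ
    haveI : Subsingleton Q :=
      (Submodule.subsingleton_iff R).mp (subsingleton_iff_bot_eq_top.mp hQ.symm)
    exact TorZero.of_subsingleton
  | succ n ih =>
    let Q' : Submodule R Q := I • ⊤
    refine TorZero.of_extension (K := Q') (Q := Q ⧸ Q') (ih ?_) (torZero_of_smul_eq_bot h1 ?_)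
      (f := Q'.subtype) Subtype.val_injective (LinearMap.exact_subtype_mkQ Q') (Submodule.mkQ_surjective _)
    · apply Submodule.map_injective_of_injective Q'.injective_subtype
      rw [Submodule.map_smul'', Submodule.map_top, Submodule.range_subtype, Submodule.map_bot,
        ← mul_smul, ← pow_succ, hQ]
    · rw [← Submodule.range_mkQ Q', ← Submodule.map_top, ← Submodule.map_smul'',
        Submodule.mkQ_map_self]

theorem flat_of_torZero (h : ∀ I : Ideal R, TorZero R M (R ⧸ I)) : Module.Flat R M :=
  Module.Flat.iff_lTensor_injective'.mpr fun I => (torZero_quotient_iff I).mp (h I)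

/-- Flatness from flatness modulo a nilpotent ideal. -/
theorem flat_of_isNilpotent {I : Ideal R} (hI : IsNilpotent I)
    (h1 : Injective (I.subtype.lTensor M)) [Module.Flat (R ⧸ I) ((R ⧸ I) ⊗[R] M)] :
    Module.Flat R M := by
  obtain ⟨n, hn⟩ := hI
  exact flat_of_torZero fun J => torZero_of_pow_smul_eq_bot h1 n (by rw [hn]; simp)


end Annihilated

end Groth.Agent.FlatCritUniv
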